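import Mathlib

/-! Bounded below acyclic complexes of projectives are contractible; splitting of short exact
sequences of complexes with acyclic projective quotient. -/

universe v u

open CategoryTheory Limits

namespace AcycFree

variable {C : Type u} [Category.{v} C] [Abelian C] (Q : ChainComplex C ℕ)

theorem exists_lift (hQ : Q.Acyclic) [∀ q, Projective (Q.X q)] (k j i : ℕ) (hkj : k = j + 1)
    (hi : j = i + 1 ∨ (j = 0 ∧ i = 0)) {P : C} [Projective P] (φ : P ⟶ Q.X j)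
    (hφ : φ ≫ Q.d j i = 0) : ∃ ψ : P ⟶ Q.X k, ψ ≫ Q.d k j = φ := by
  have h := (HomologicalComplex.exactAt_iff' Q k j i (by simp [hkj])
    (by rcases hi with rfl | ⟨rfl, rfl⟩ <;> simp)).1 (hQ j)
  exact ⟨h.liftFromProjective φ hφ, h.liftFromProjective_comp φ hφ⟩

theorem contractible (hQ : Q.Acyclic) [∀ q, Projective (Q.X q)] :
    Nonempty (Homotopy (𝟙 Q) 0) := by
  classical
  have h0 : ∃ s : Q.X 0 ⟶ Q.X 1, s ≫ Q.d 1 0 = 𝟙 _ :=
    exists_lift Q hQ 1 0 0 rfl (Or.inr ⟨rfl, rfl⟩) _ (by simp)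
  choose s₀ hs₀ using h0
  have h1 : ∃ s : Q.X 1 ⟶ Q.X 2, s ≫ Q.d 2 1 = 𝟙 _ - Q.d 1 0 ≫ s₀ :=
    exists_lift Q hQ 2 1 0 rfl (Or.inl rfl) _ (by simp [hs₀])
  choose s₁ hs₁ using h1
  have hstep : ∀ (n : ℕ) (p : Σ' (f : Q.X n ⟶ Q.X (n + 1)) (f' : Q.X (n + 1) ⟶ Q.X (n + 2)),
      (𝟙 Q : Q ⟶ Q).f (n + 1) = Q.d (n + 1) n ≫ f + f' ≫ Q.d (n + 2) (n + 1)),
      ∃ f'' : Q.X (n + 2) ⟶ Q.X (n + 3),
        (𝟙 Q : Q ⟶ Q).f (n + 2) = Q.d (n + 2) (n + 1) ≫ p.2.1 + f'' ≫ Q.d (n + 3) (n + 2) := by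
    intro n p
    have hp := p.2.2
    obtain ⟨t, ht⟩ := exists_lift Q hQ (n + 3) (n + 2) (n + 1) rfl (Or.inl rfl)
      (𝟙 _ - Q.d (n + 2) (n + 1) ≫ p.2.1) (by
        have : p.2.1 ≫ Q.d (n + 2) (n + 1) = 𝟙 _ - Q.d (n + 1) n ≫ p.1 := by
          rw [eq_sub_iff_add_eq, add_comm (p.2.1 ≫ _)]; simpa using hp.symm
        simp [Category.assoc, this])
    exact ⟨t, by simp [ht]⟩
  choose t ht using hstep
  exact ⟨Homotopy.mkInductive _ s₀ (by simp [hs₀]) s₁ (by simp [hs₁]) fun n p => ⟨t n p, ht n p⟩⟩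

variable {Q}

/-- A short exact sequence of complexes with acyclic quotient of projectives splits as complexes. -/
theorem splitting {S : ShortComplex (ChainComplex C ℕ)} (hS : S.ShortExact) [QuasiIso S.f]
    [∀ q, Projective (S.X₃.X q)] :
    Nonempty S.Splitting ∧ Nonempty (Homotopy (𝟙 S.X₃) 0) := by
  obtain ⟨H⟩ := contractible S.X₃ (hS.acyclic_X₃ inferInstance)
  have he : ∀ q, Epi (S.g.f q) := fun q => by
    have := hS.epi_g
    infer_instance
  let σ : ∀ q, S.X₃.X q ⟶ S.X₂.X q := fun q => Projective.factorThru (𝟙 _) (S.g.f q)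
  have hσ : ∀ q, σ q ≫ S.g.f q = 𝟙 _ := fun q => Projective.factorThru_comp _ _
  let h : S.X₃ ⟶ S.X₂ := Homotopy.nullHomotopicMap fun i j => H.hom i j ≫ σ j
  have hh : h ≫ S.g = 𝟙 _ := by
    rw [Homotopy.nullHomotopicMap_comp]
    ext i
    have := H.comm i
    simp only [HomologicalComplex.zero_f, add_zero] at this
    rw [this]
    simp [Homotopy.nullHomotopicMap, Category.assoc, hσ]
  exact ⟨⟨ShortComplex.Splitting.ofExactOfSection S hS.exact h hh hS.mono_f⟩, ⟨H⟩⟩

end AcycFree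

namespace AcycFree

variable {R : Type u} [Ring R]

theorem shortExact_of_injective {A' A A'' : ChainComplex (ModuleCat.{v} R) ℕ} (f : A' ⟶ A) (p : A ⟶ A'')
    (w : f ≫ p = 0) (hf : ∀ q, Function.Injective (f.f q).hom) (hp : ∀ q, Function.Surjective (p.f q).hom)
    (hfp : ∀ q, Function.Exact (f.f q).hom (p.f q).hom) :
    (ShortComplex.mk f p w).ShortExact :=
  HomologicalComplex.shortExact_of_degreewise_shortExact _ fun q =>
    { exact := (ShortComplex.ShortExact.moduleCat_exact_iff_function_exact _).2 (hfp q)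
      mono_f := (ModuleCat.mono_iff_injective _).2 (hf q)
      epi_g := (ModuleCat.epi_iff_surjective _).2 (hp q) }

/-- The short exact sequence of a degreewise injective map with free quotients. -/
theorem shortExact_cokernel {A' A : ChainComplex (ModuleCat.{v} R) ℕ} (f : A' ⟶ A)
    (hf : ∀ q, Function.Injective (f.f q).hom)
    (hq : ∀ q, Module.Free R ((A.X q) ⧸ LinearMap.range (f.f q).hom)) :
    (ShortComplex.mk f (cokernel.π f) (cokernel.condition f)).ShortExact ∧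
      ∀ q, Projective ((cokernel f).X q) := by
  have hm : Mono f := by
    have : ∀ q, Mono (f.f q) := fun q => (ModuleCat.mono_iff_injective _).2 (hf q)
    exact HomologicalComplex.mono_of_mono_f f this
  refine ⟨⟨ShortComplex.exact_of_g_is_cokernel _ (cokernelIsCokernel f)⟩, fun q => ?_⟩
  have hfree := hq q
  have : Projective (ModuleCat.of R ((A.X q) ⧸ LinearMap.range (f.f q).hom)) :=
    ModuleCat.projective_of_free (Module.Free.chooseBasis R _)
  exact Projective.of_iso ((ModuleCat.cokernelIsoRangeQuotient (f.f q)).symm ≪≫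
    (PreservesCokernel.iso (HomologicalComplex.eval (ModuleCat.{v} R) (ComplexShape.down ℕ) q) f).symm)
    this

end AcycFree
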